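import Cfsg.Agent.LieClassical.OrthCore

/-!
EV6: `t = ρ_{w,x}`, `s = ρ_{a,b}` with `⟨w,x,a,b⟩` totally singular of dimension 4:
`|C(t) : C(t) ∩ C(s)| ≥ q^(4l-11)`.
-/

set_option autoImplicit false
set_option linter.unusedSectionVars false

namespace Cfsg.Agent.H837.IFE

open QuadraticMap Module Subgroup Cfsg.Agent.LieClassical.OrthCore

/-- Counting: pairwise different conjugates of `s` under elements of `C(t)`. -/
theorem card_le_relIndex {G P : Type*} [Group G] [Finite G] (s t : G) (g : P → G)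
    (h1 : ∀ p, g p ∈ centralizer ({t} : Set G))
    (h2 : ∀ p p', g p * s * (g p)⁻¹ = g p' * s * (g p')⁻¹ → p = p') :
    Nat.card P ≤ (centralizer ({s} : Set G)).relIndex (centralizer ({t} : Set G)) := by
  have hf : Finite (↥(centralizer ({t} : Set G)) ⧸
      (centralizer ({s} : Set G)).subgroupOf (centralizer ({t} : Set G))) := inferInstance
  rw [Subgroup.relIndex, Subgroup.index]
  refine Nat.card_le_card_of_injective
    (fun p => (QuotientGroup.mk (⟨g p, h1 p⟩ : ↥(centralizer ({t} : Set G))) :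
      ↥(centralizer ({t} : Set G)) ⧸
      (centralizer ({s} : Set G)).subgroupOf (centralizer ({t} : Set G)))) ?_
  intro p p' hpp
  apply h2
  have h3 := QuotientGroup.eq.1 hpp
  rw [Subgroup.mem_subgroupOf, mem_centralizer_singleton_iff] at h3
  simp only [Subgroup.coe_mul, InvMemClass.coe_inv] at h3
  -- `(g p)⁻¹ * g p' * s = s * ((g p)⁻¹ * g p')`
  have h4 : g p' * s = g p * (((g p)⁻¹ * g p') * s) := by group
  rw [h4]
  rw [h3]; group

variable {F V : Type*} [Field F] [AddCommGroup V] [Module F V]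

/-- The dual vectors of an independent family. -/
theorem exists_dual [FiniteDimensional F V] {Q : QuadraticForm F V} (hQ : Nondeg Q) {n : ℕ}
    {u : Fin n → V} (hi : LinearIndependent F u) (c : Fin n → F) :
    ∃ v : V, ∀ i, polar Q v (u i) = c i := by
  have hinj : Function.Injective (polarBilin Q) := by
    rw [← LinearMap.ker_eq_bot, LinearMap.ker_eq_bot']
    intro v hv
    exact hQ v (fun y => by
      have := congrArg (fun f : V →ₗ[F] F => f y) hv
      simpa using this)
  have hsurj : Function.Surjective (polarBilin Q) :=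
    (LinearMap.injective_iff_surjective_of_finrank_eq_finrank
      (Subspace.dual_finrank_eq (K := F) (V := V)).symm).1 hinj
  obtain ⟨f, hf⟩ : ∃ f : V →ₗ[F] F, ∀ i, f (u i) = c i := by
    obtain ⟨f, hf⟩ := LinearMap.exists_extend
      ((Basis.span hi).constr F c : ↥(Submodule.span F (Set.range u)) →ₗ[F] F)
    refine ⟨f, fun i => ?_⟩
    have h1 := congrArg (fun φ => φ (Basis.span hi i)) hf
    simp only [LinearMap.comp_apply, Basis.constr_basis, Submodule.subtype_apply] at h1
    rw [Basis.span_apply] at h1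
    exact h1
  obtain ⟨v, hv⟩ := hsurj f
  refine ⟨v, fun i => ?_⟩
  rw [← hf i, ← hv]
  rfl

/-- Two orthogonal hyperbolic partners of `a` and `b`, orthogonal to `w` and `x`. -/
theorem exists_partners [FiniteDimensional F V] {Q : QuadraticForm F V} (hQ : Nondeg Q) {w x a b : V}
    (ha : Q a = 0) (hb : Q b = 0) (hwa : polar Q w a = 0) (hwb : polar Q w b = 0)
    (hxa : polar Q x a = 0) (hxb : polar Q x b = 0) (hab : polar Q a b = 0)
    (hi : LinearIndependent F ![w, x, a, b]) :
    ∃ a' b' : V, Q a' = 0 ∧ Q b' = 0 ∧ polar Q a' b' = 0 ∧ polar Q a' w = 0 ∧ polar Q a' x = 0 ∧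
      polar Q a' a = 1 ∧ polar Q a' b = 0 ∧ polar Q b' w = 0 ∧ polar Q b' x = 0 ∧
      polar Q b' a = 0 ∧ polar Q b' b = 1 := by
  have haa : polar Q a a = 0 := polar_self_of_sing ha
  have hbb : polar Q b b = 0 := polar_self_of_sing hb
  have haw : polar Q a w = 0 := by rw [polar_comm]; exact hwa
  have hax : polar Q a x = 0 := by rw [polar_comm]; exact hxa
  have hbw : polar Q b w = 0 := by rw [polar_comm]; exact hwb
  have hbx : polar Q b x = 0 := by rw [polar_comm]; exact hxb
  have hba : polar Q b a = 0 := by rw [polar_comm]; exact hab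
  obtain ⟨p, hp⟩ := exists_dual hQ hi ![0, 0, 1, 0]
  have hp0 : polar Q p w = 0 := hp 0
  have hp1 : polar Q p x = 0 := hp 1
  have hp2 : polar Q p a = 1 := hp 2
  have hp3 : polar Q p b = 0 := hp 3
  obtain ⟨r, hr⟩ := exists_dual hQ hi ![0, 0, 0, 1]
  have hr0 : polar Q r w = 0 := hr 0
  have hr1 : polar Q r x = 0 := hr 1
  have hr2 : polar Q r a = 0 := hr 2
  have hr3 : polar Q r b = 1 := hr 3
  -- `a' = p - Q(p) a`
  obtain ⟨a', ha'⟩ : ∃ a', a' = p + (-(Q p)) • a := ⟨_, rfl⟩
  have e1 : Q a' = 0 := by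
    rw [ha', Q_add, QuadraticMap.map_smul, ha, polar_smul_right, hp2]; simp
  have e2 : polar Q a' w = 0 := by rw [ha', polar_add_left, polar_smul_left, hp0, haw]; simp
  have e3 : polar Q a' x = 0 := by rw [ha', polar_add_left, polar_smul_left, hp1, hax]; simp
  have e4 : polar Q a' a = 1 := by rw [ha', polar_add_left, polar_smul_left, hp2, haa]; simp
  have e5 : polar Q a' b = 0 := by rw [ha', polar_add_left, polar_smul_left, hp3, hab]; simp
  have e4' : polar Q a a' = 1 := by rw [polar_comm]; exact e4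
  have e5' : polar Q b a' = 0 := by rw [polar_comm]; exact e5
  -- `r' = r - B(r,a') a`
  obtain ⟨r', hr'⟩ : ∃ r', r' = r + (-(polar Q r a')) • a := ⟨_, rfl⟩
  have f1 : polar Q r' w = 0 := by rw [hr', polar_add_left, polar_smul_left, hr0, haw]; simp
  have f2 : polar Q r' x = 0 := by rw [hr', polar_add_left, polar_smul_left, hr1, hax]; simp
  have f3 : polar Q r' a = 0 := by rw [hr', polar_add_left, polar_smul_left, hr2, haa]; simp
  have f4 : polar Q r' b = 1 := by rw [hr', polar_add_left, polar_smul_left, hr3, hab]; simp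
  have f5 : polar Q r' a' = 0 := by rw [hr', polar_add_left, polar_smul_left, e4']; simp
  -- `b' = r' - Q(r') b`
  obtain ⟨b', hb'⟩ : ∃ b', b' = r' + (-(Q r')) • b := ⟨_, rfl⟩
  refine ⟨a', b', e1, ?_, ?_, e2, e3, e4, e5, ?_, ?_, ?_, ?_⟩
  · rw [hb', Q_add, QuadraticMap.map_smul, hb, polar_smul_right, f4]; simp
  · rw [polar_comm, hb', polar_add_left, polar_smul_left, f5, e5']; simp
  · rw [hb', polar_add_left, polar_smul_left, f1, hbw]; simp
  · rw [hb', polar_add_left, polar_smul_left, f2, hbx]; simp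
  · rw [hb', polar_add_left, polar_smul_left, f3, hba]; simp
  · rw [hb', polar_add_left, polar_smul_left, f4, hbb]; simp

/-- The common orthogonal space of `n` vectors has dimension at least `dim V - n`. -/
theorem card_orth [Finite V] [Finite F] (Q : QuadraticForm F V) {n d : ℕ}
    (hd : finrank F V = d) (u : Fin n → V) :
    Nat.card F ^ (d - n) ≤ Nat.card {v : V // ∀ i, polar Q (u i) v = 0} := by
  have : FiniteDimensional F V := inferInstance
  let φ : V →ₗ[F] (Fin n → F) := LinearMap.pi (fun i => polarBilin Q (u i))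
  have h1 := LinearMap.finrank_range_add_finrank_ker φ
  have h2 : finrank F ↥(LinearMap.range φ) ≤ n := by
    have := Submodule.finrank_le (LinearMap.range φ)
    rwa [finrank_fin_fun] at this
  have h3 : d - n ≤ finrank F ↥(LinearMap.ker φ) := by omega
  have h4 : Nat.card {v : V // ∀ i, polar Q (u i) v = 0} = Nat.card ↥(LinearMap.ker φ) := by
    refine Nat.card_congr (Equiv.subtypeEquivRight fun v => ?_)
    rw [LinearMap.mem_ker, funext_iff]
    rfl
  rw [h4, Module.natCard_eq_pow_finrank (K := F) (V := ↥(LinearMap.ker φ))]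
  exact Nat.pow_le_pow_right Nat.card_pos h3

/-- EV6. `t = ρ_{w,x}`, `s = ρ_{a,b}` with `⟨w,x,a,b⟩` totally singular of dimension 4 -/
theorem relIndex_disjoint {F V : Type*} [Field F] [Fintype F] [CharP F 2] [AddCommGroup V] [Module F V] [Fintype V]
    {Q : QuadraticForm F V} (hQ : Nondeg Q) {l : ℕ} (hl : 4 ≤ l) (hd : finrank F V = 2 * l) {w x a b : V}
    (hw : Q w = 0) (hx : Q x = 0) (ha : Q a = 0) (hb : Q b = 0) (hwx : polar Q w x = 0) (hwa : polar Q w a = 0)
    (hwb : polar Q w b = 0) (hxa : polar Q x a = 0) (hxb : polar Q x b = 0) (hab : polar Q a b = 0)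
    (hi : LinearIndependent F ![w, x, a, b]) {s t : ↥(E Q)} (ht : (t : V ≃ₗ[F] V) = siegel Q w x hw hwx)
    (hs : (s : V ≃ₗ[F] V) = siegel Q a b ha hab) :
    Fintype.card F ^ (4 * l - 11) ≤
      (centralizer ({s} : Set ↥(E Q))).relIndex (centralizer ({t} : Set ↥(E Q))) := by
  obtain ⟨a', b', ha', hb', hab', haw, hax, haa, hba, hbw, hbx, hab2, hbb⟩ :=
    exists_partners hQ ha hb hwa hwb hxa hxb hab hi
  let X := {v : V // ∀ i, polar Q ((![w, x, a, b, a', b'] : Fin 6 → V) i) v = 0}
  have hX : ∀ v : X, polar Q v.1 w = 0 ∧ polar Q v.1 x = 0 ∧ polar Q v.1 a = 0 ∧ polar Q v.1 b = 0 ∧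
      polar Q v.1 a' = 0 ∧ polar Q v.1 b' = 0 := by
    intro v
    refine ⟨?_, ?_, ?_, ?_, ?_, ?_⟩
    · rw [polar_comm]; exact v.2 0
    · rw [polar_comm]; exact v.2 1
    · rw [polar_comm]; exact v.2 2
    · rw [polar_comm]; exact v.2 3
    · rw [polar_comm]; exact v.2 4
    · rw [polar_comm]; exact v.2 5
  have hcX : Fintype.card F ^ (2 * l - 6) ≤ Nat.card X := by
    rw [← Nat.card_eq_fintype_card]
    exact card_orth Q hd _
  have hfin : Finite (V ≃ₗ[F] V) := DFunLike.finite _
  have hb'a' : polar Q b' a' = 0 := by rw [polar_comm]; exact hab'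
  have haa2 : polar Q a a' = 1 := by rw [polar_comm]; exact haa
  have hbb2 : polar Q b b' = 1 := by rw [polar_comm]; exact hbb
  have hba2 : polar Q b a' = 0 := by rw [polar_comm]; exact hba
  have hab3 : polar Q a b' = 0 := by rw [polar_comm]; exact hab2
  have hsa' : polar Q a' a' = 0 := polar_self_of_sing ha'
  have hsb' : polar Q b' b' = 0 := polar_self_of_sing hb'
  -- the parameters
  have hy1 : ∀ p : X × F × X, polar Q a' (p.1.1 + p.2.1 • b') = 0 := by
    rintro ⟨y, c, z⟩
    rw [polar_add_right, polar_smul_right, hab', polar_comm, (hX y).2.2.2.2.1]; simp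
  have hz1 : ∀ p : X × F × X, polar Q b' p.2.2.1 = 0 := by
    rintro ⟨y, c, z⟩
    rw [polar_comm]; exact (hX z).2.2.2.2.2
  let g : X × F × X → ↥(E Q) := fun p =>
    ⟨siegel Q a' (p.1.1 + p.2.1 • b') ha' (hy1 p), siegel_mem_E _ _⟩ *
      ⟨siegel Q b' p.2.2.1 hb' (hz1 p), siegel_mem_E _ _⟩
  have hg : ∀ p v, (g p : V ≃ₗ[F] V) v =
      siegel Q a' (p.1.1 + p.2.1 • b') ha' (hy1 p) (siegel Q b' p.2.2.1 hb' (hz1 p) v) := fun p v => rfl
  have hgO : ∀ p, (g p : V ≃ₗ[F] V) ∈ O Q := fun p => E_le_O (g p).2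
  have hgw : ∀ p, (g p : V ≃ₗ[F] V) w = w := by
    rintro ⟨y, c, z⟩
    rw [hg, siegel_apply, siegel_apply]
    simp [hbw, (hX z).1, haw, (hX y).1, polar_add_left, polar_smul_left]
  have hgx : ∀ p, (g p : V ≃ₗ[F] V) x = x := by
    rintro ⟨y, c, z⟩
    rw [hg, siegel_apply, siegel_apply]
    simp [hbx, (hX z).2.1, hax, (hX y).2.1, polar_add_left, polar_smul_left]
  have hga : ∀ p, (g p : V ≃ₗ[F] V) a = a + (p.1.1 + p.2.1 • b') - Q (p.1.1 + p.2.1 • b') • a' := by
    rintro ⟨y, c, z⟩
    rw [hg, siegel_apply hb']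
    simp only [hab2, (hX z).2.2.1]
    rw [siegel_apply]
    simp [haa, (hX y).2.2.1, polar_add_left, polar_smul_left, hab2]
  have hgb : ∀ p, ∃ κ : F, (g p : V ≃ₗ[F] V) b = b + p.2.2.1 - Q p.2.2.1 • b' - κ • a' := by
    rintro ⟨y, c, z⟩
    rw [hg, siegel_apply hb']
    simp only [hbb, (hX z).2.2.2.1]
    rw [siegel_apply]
    refine ⟨polar Q (y.1 + c • b') (b + (1 : F) • z.1 - (0 : F) • b' - (Q z.1 * 1) • b'), ?_⟩
    have e1 : polar Q a' (b + (1 : F) • z.1 - (0 : F) • b' - (Q z.1 * 1) • b') = 0 := by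
      simp only [polar_add_right, polar_sub_right, polar_smul_right, hba, hab']
      rw [polar_comm Q a', (hX z).2.2.2.2.1]; simp
    rw [e1]
    simp
  -- `g p` centralises `t`
  have h1 : ∀ p, g p ∈ centralizer ({t} : Set ↥(E Q)) := by
    intro p
    rw [mem_centralizer_singleton_iff]
    apply Subtype.ext
    show (g p : V ≃ₗ[F] V) * (t : V ≃ₗ[F] V) = (t : V ≃ₗ[F] V) * (g p : V ≃ₗ[F] V)
    rw [ht]
    have h2 := siegel_conj (hgO p) hw hwx (by rw [hgw, hw]) (by rw [hgw, hgx, hwx])
    simp only [hgw, hgx] at h2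
    rw [mul_inv_eq_iff_eq_mul] at h2
    exact h2
  -- `g p` is determined by the conjugate
  have h2 : ∀ p p', g p * s * (g p)⁻¹ = g p' * s * (g p')⁻¹ → p = p' := by
    have key : ∀ p v, ((g p * s * (g p)⁻¹ : ↥(E Q)) : V ≃ₗ[F] V) v =
        v + polar Q ((g p : V ≃ₗ[F] V) a) v • (g p : V ≃ₗ[F] V) b -
          polar Q ((g p : V ≃ₗ[F] V) b) v • (g p : V ≃ₗ[F] V) a := by
      intro p v
      rw [Subgroup.coe_mul, Subgroup.coe_mul, hs, InvMemClass.coe_inv,
        siegel_conj (hgO p) ha hab (by rw [mem_O.1 (hgO p), ha]) (by rw [polar_map (hgO p), hab]),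
        siegel_apply, mem_O.1 (hgO p), hb]
      simp
    have ka : ∀ p, ((g p * s * (g p)⁻¹ : ↥(E Q)) : V ≃ₗ[F] V) a' = a' + (g p : V ≃ₗ[F] V) b := by
      intro p
      obtain ⟨κ, hκ⟩ := hgb p
      have e1 : polar Q ((g p : V ≃ₗ[F] V) a) a' = 1 := by
        rw [hga]
        simp [polar_add_left, polar_sub_left, polar_smul_left, haa2, (hX p.1).2.2.2.2.1, hb'a', hsa']
      have e2 : polar Q ((g p : V ≃ₗ[F] V) b) a' = 0 := by
        rw [hκ]
        simp [polar_add_left, polar_sub_left, polar_smul_left, hba2, (hX p.2.2).2.2.2.2.1, hb'a', hsa']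
      rw [key, e1, e2]
      simp
    have kb : ∀ p, ((g p * s * (g p)⁻¹ : ↥(E Q)) : V ≃ₗ[F] V) b' = b' - (g p : V ≃ₗ[F] V) a := by
      intro p
      obtain ⟨κ, hκ⟩ := hgb p
      have e1 : polar Q ((g p : V ≃ₗ[F] V) a) b' = 0 := by
        rw [hga]
        simp [polar_add_left, polar_sub_left, polar_smul_left, hab3, (hX p.1).2.2.2.2.2, hab', hsb']
      have e2 : polar Q ((g p : V ≃ₗ[F] V) b) b' = 1 := by
        rw [hκ]
        simp [polar_add_left, polar_sub_left, polar_smul_left, hbb2, (hX p.2.2).2.2.2.2.2, hab', hsb']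
      rw [key, e1, e2]
      simp
    intro p p' hpp
    have h3 : (g p : V ≃ₗ[F] V) b = (g p' : V ≃ₗ[F] V) b := by
      have h := ka p
      rw [hpp, ka p'] at h
      exact (add_left_cancel h).symm
    have h4 : (g p : V ≃ₗ[F] V) a = (g p' : V ≃ₗ[F] V) a := by
      have h := kb p
      rw [hpp, kb p'] at h
      exact (sub_right_injective h).symm
    obtain ⟨y, c, z⟩ := p
    obtain ⟨y', c', z'⟩ := p'
    -- the `a`-part
    rw [hga, hga] at h4
    simp only at h4
    have h5 : Q (y.1 + c • b') = Q (y'.1 + c' • b') := by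
      have h := congrArg (fun v => polar Q v a) h4
      simpa [polar_add_left, polar_sub_left, polar_smul_left, (hX y).2.2.1, (hX y').2.2.1, haa, hab2]
        using h
    rw [h5] at h4
    have h6 : y.1 + c • b' = y'.1 + c' • b' := by
      exact add_left_cancel (sub_left_injective h4)
    have h7 : c = c' := by
      have h := congrArg (fun v => polar Q v b) h6
      simpa [polar_add_left, polar_smul_left, (hX y).2.2.2.1, (hX y').2.2.2.1, hbb] using h
    subst h7
    have h8 : y = y' := Subtype.ext (add_right_cancel h6)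
    subst h8
    -- the `b`-part
    obtain ⟨κ, hκ⟩ := hgb (y, c, z)
    obtain ⟨κ', hκ'⟩ := hgb (y, c, z')
    rw [hκ, hκ'] at h3
    simp only at h3
    have h9 : Q z.1 = Q z'.1 := by
      have h := congrArg (fun v => polar Q v b) h3
      simpa [polar_add_left, polar_sub_left, polar_smul_left, (hX z).2.2.2.1, (hX z').2.2.2.1, hbb, hba]
        using h
    have h10 : κ = κ' := by
      have h := congrArg (fun v => polar Q v a) h3
      simpa [polar_add_left, polar_sub_left, polar_smul_left, (hX z).2.2.1, (hX z').2.2.1, hab2, haa]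
        using h
    rw [h9, h10] at h3
    have h11 : z = z' := Subtype.ext (add_left_cancel (sub_left_injective (sub_left_injective h3)))
    subst h11
    rfl
  have h3 := card_le_relIndex s t g h1 h2
  refine le_trans ?_ h3
  rw [Nat.card_prod, Nat.card_prod, Nat.card_eq_fintype_card (α := F)]
  calc Fintype.card F ^ (4 * l - 11)
      = Fintype.card F ^ (2 * l - 6) * (Fintype.card F * Fintype.card F ^ (2 * l - 6)) := by
        rw [← pow_succ', ← pow_add]; congr 1; omega
    _ ≤ Nat.card X * (Fintype.card F * Nat.card X) :=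
        Nat.mul_le_mul hcX (Nat.mul_le_mul le_rfl hcX)

end Cfsg.Agent.H837.IFE
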